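import Mathlib

/-!
Lower bound on the degree of a representation of a direct product of copies of `SL₂`:
if commuting semisimple elements `t j` are inverted by elements `w j`, and no `σ (t j) ^ 2`
is trivial, then the degree is at least twice the number of factors.
-/

set_option autoImplicit false

open Module

namespace Cfsg.Agent.MinRepSp

variable {ι G K V : Type*} [Group G] [Field K] [AddCommGroup V] [Module K V]
variable (σ : G →* Module.End K V) (t w : ι → G)

/-- `P` is invariant under the `j`th pair. -/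
def InvPair (P : Submodule K V) (j : ι) : Prop :=
  (∀ x ∈ P, σ (t j) x ∈ P) ∧ (∀ x ∈ P, σ (w j) x ∈ P)

/-- `(σ t)^2 - 1` -/
def sqSub (j : ι) : Module.End K V := σ (t j * t j) - 1

variable {σ t w}

theorem sigma_cancel (g : G) (x : V) : σ g⁻¹ (σ g x) = x := by
  rw [← Module.End.mul_apply, ← map_mul, inv_mul_cancel, map_one, Module.End.one_apply]

theorem inv_mem_of_pow {P : Submodule K V} {g : G} {r : ℕ} (hr : g ^ r = 1) (hr0 : r ≠ 0)
    (h : ∀ x ∈ P, σ g x ∈ P) : ∀ x ∈ P, σ g⁻¹ x ∈ P := by
  obtain ⟨m, rfl⟩ := Nat.exists_eq_succ_of_ne_zero hr0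
  have hg : g⁻¹ = g ^ m := inv_eq_of_mul_eq_one_left (by rw [← pow_succ]; exact hr)
  rw [hg, map_pow]
  clear hr hr0 hg
  induction m with
  | zero => intro x hx; simpa using hx
  | succ m ih => intro x hx; rw [pow_succ', Module.End.mul_apply]; exact h _ (ih x hx)

theorem two_mul_le_two_pow (m : ℕ) : 2 * m ≤ 2 ^ m := by
  induction m with
  | zero => simp
  | succ m ih => rcases m with _ | m <;> simp [pow_succ] at * <;> omega

theorem le_finrank_of_pairs [FiniteDimensional K V] [IsAlgClosed K] [DecidableEq ι] {r : ℕ}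
    (hr : ∀ j, t j ^ r = 1) (hr0 : (r : K) ≠ 0)
    (hflip : ∀ j, w j * t j = (t j)⁻¹ * w j)
    (hc : ∀ i j, i ≠ j → Commute (t i) (t j) ∧ Commute (t i) (w j))
    (R : Finset ι) (P : Submodule K V) (hP : P ≠ ⊥)
    (hinv : ∀ j ∈ R, InvPair σ t w P j)
    (hR : ∀ j ∈ R, ∀ x ∈ P, sqSub σ t j x = 0 → x = 0) :
    2 ^ R.card ≤ finrank K P := by
  induction R using Finset.induction_on generalizing P with
  | empty =>
    simpa [Nat.one_le_iff_ne_zero, Submodule.finrank_eq_zero] using hP
  | @insert j R hj ih =>
    have hjP := hinv j (Finset.mem_insert_self j R)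
    have : Nontrivial P := Submodule.nontrivial_iff_ne_bot.2 hP
    obtain ⟨μ, hμ⟩ := Module.End.exists_eigenvalue ((σ (t j)).restrict hjP.1)
    obtain ⟨v, hv⟩ := hμ.exists_hasEigenvector
    have hv1 : σ (t j) (v : V) = μ • (v : V) := congrArg Subtype.val hv.apply_eq_smul
    have hv0 : (v : V) ≠ 0 := fun h => hv.2 (Subtype.ext h)
    have hμ0 : μ ≠ 0 := by
      rintro rfl
      exact hv0 (by simpa [zero_smul, hv1] using (sigma_cancel (σ := σ) (t j) (v : V)).symm)
    have hμ2 : μ * μ ≠ 1 := by
      intro h
      refine hv0 (hR j (Finset.mem_insert_self j R) _ v.2 ?_)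
      simp [sqSub, hv1, map_smul, smul_smul, h]
    let E (c : K) : Submodule K V := P ⊓ Module.End.eigenspace (σ (t j)) c
    have hEmem : ∀ c x, x ∈ E c ↔ x ∈ P ∧ σ (t j) x = c • x := fun c x => by
      simp [E]
    have hEinv : ∀ c, ∀ i ∈ R, InvPair σ t w (E c) i := by
      intro c i hi
      have hne : j ≠ i := fun h => hj (h ▸ hi)
      have hiP := hinv i (Finset.mem_insert_of_mem hi)
      constructor
      · intro x hx
        rw [hEmem] at hx ⊢
        refine ⟨hiP.1 x hx.1, ?_⟩
        rw [← Module.End.mul_apply, ← map_mul, (hc j i hne).1.eq, map_mul, Module.End.mul_apply,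
          hx.2, map_smul]
      · intro x hx
        rw [hEmem] at hx ⊢
        refine ⟨hiP.2 x hx.1, ?_⟩
        rw [← Module.End.mul_apply, ← map_mul, (hc j i hne).2.eq, map_mul, Module.End.mul_apply,
          hx.2, map_smul]
    have hE0 : E μ ≠ ⊥ := fun h => hv0 (by
      have : (v : V) ∈ E μ := (hEmem _ _).2 ⟨v.2, hv1⟩
      simpa [h] using this)
    have h1 := ih (E μ) hE0 (hEinv μ)
      (fun i hi x hx => hR i (Finset.mem_insert_of_mem hi) x hx.1)
    have hW : ∀ x ∈ E μ, σ (w j) x ∈ E μ⁻¹ := by
      intro x hx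
      rw [hEmem] at hx ⊢
      refine ⟨hjP.2 x hx.1, ?_⟩
      have hinvx : σ (t j)⁻¹ x = μ⁻¹ • x := by
        have := congrArg (fun y => μ⁻¹ • σ (t j)⁻¹ y) hx.2
        simp only [sigma_cancel, map_smul, smul_smul, inv_mul_cancel₀ hμ0, one_smul] at this
        exact this.symm
      have e : t j * w j = w j * (t j)⁻¹ := by
        have h' : w j = (t j)⁻¹ * w j * (t j)⁻¹ := by rw [← hflip j, mul_inv_cancel_right]
        conv_lhs => rw [h']
        group
      rw [← Module.End.mul_apply, ← map_mul, e, map_mul, Module.End.mul_apply, hinvx, map_smul]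
    have h2 : finrank K (E μ) ≤ finrank K (E μ⁻¹) := by
      refine LinearMap.finrank_le_finrank_of_injective (f := (σ (w j)).restrict hW) ?_
      intro a b hab
      have := congrArg (fun z : E μ⁻¹ => σ (w j)⁻¹ (z : V)) hab
      simpa [sigma_cancel] using this
    have hdisj : Disjoint (E μ) (E μ⁻¹) := by
      rw [Submodule.disjoint_def]
      intro x hx hx'
      rw [hEmem] at hx hx'
      have h : (μ - μ⁻¹) • x = 0 := by rw [sub_smul, ← hx.2, ← hx'.2, sub_self]
      refine (smul_eq_zero.1 h).resolve_left ?_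
      intro e
      rw [sub_eq_zero] at e
      exact hμ2 (by nth_rewrite 1 [e]; exact inv_mul_cancel₀ hμ0)
    have h3 : finrank K (E μ) + finrank K (E μ⁻¹) ≤ finrank K P := by
      rw [← Submodule.finrank_sup_add_finrank_inf_eq, hdisj.eq_bot, finrank_bot, add_zero]
      exact Submodule.finrank_mono (sup_le inf_le_left inf_le_left)
    rw [Finset.card_insert_of_notMem hj, pow_succ]
    omega

/-- The main bound. -/
theorem two_mul_card_le_finrank [FiniteDimensional K V] [IsAlgClosed K] [DecidableEq ι] {r : ℕ}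
    (hr : ∀ j, t j ^ r = 1) (hr0 : (r : K) ≠ 0)
    (hflip : ∀ j, w j * t j = (t j)⁻¹ * w j)
    (hc : ∀ i j, i ≠ j → Commute (t i) (t j) ∧ Commute (t i) (w j))
    (S : Finset ι) : ∀ (R : Finset ι) (P : Submodule K V), Disjoint R S → (S.Nonempty ∨ P ≠ ⊥) →
    (∀ j ∈ R ∪ S, InvPair σ t w P j) → (∀ j ∈ R, ∀ x ∈ P, sqSub σ t j x = 0 → x = 0) →
    (∀ j ∈ S, ∃ x ∈ P, sqSub σ t j x ≠ 0) → 2 * (R.card + S.card) ≤ finrank K P := by
  induction S using Finset.strongInduction with
  | _ S ih =>
    intro R P hdis hne hinv hR hS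
    rcases S.eq_empty_or_nonempty with rfl | ⟨j, hj⟩
    · have hP : P ≠ ⊥ := by simpa using hne
      have h1 := le_finrank_of_pairs hr hr0 hflip hc R P hP (fun i hi => hinv i (by simp [hi])) hR
      have h2 := two_mul_le_two_pow R.card
      simp only [Finset.card_empty, add_zero]
      omega
    have hjR : j ∉ R := fun h => Finset.disjoint_left.1 hdis h hj
    have hjP := hinv j (by simp [hj])
    have hrN : r ≠ 0 := by rintro rfl; simp at hr0
    set f := sqSub σ t j with hf
    have hfP : ∀ x ∈ P, f x ∈ P := by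
      intro x hx
      simp only [hf, sqSub, LinearMap.sub_apply, map_mul, Module.End.mul_apply, Module.End.one_apply]
      exact P.sub_mem (hjP.1 _ (hjP.1 x hx)) hx
    let K1 : Submodule K V := P ⊓ LinearMap.ker f
    let U : Submodule K V := P.map f
    have hUP : U ≤ P := Submodule.map_le_iff_le_comap.2 hfP
    -- semisimplicity
    have hss : ∀ x ∈ P, f (f x) = 0 → f x = 0 := by
      intro x _ h
      have hu : σ (t j * t j) (f x) = f x := by
        have h' : (sqSub σ t j) (f x) = 0 := h
        simpa [sqSub, sub_eq_zero] using h'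
      have hk : ∀ k : ℕ, σ ((t j * t j) ^ k) x = x + k • f x := by
        intro k
        induction k with
        | zero => simp
        | succ k ihk =>
          rw [pow_succ', map_mul, Module.End.mul_apply, ihk, map_add, map_nsmul, hu, succ_nsmul']
          simp [hf, sqSub]
          abel
      have := hk r
      rw [← sq, ← pow_mul, mul_comm, pow_mul, hr j, one_pow, map_one, Module.End.one_apply,
        left_eq_add, ← Nat.cast_smul_eq_nsmul K] at this
      exact (smul_eq_zero.1 this).resolve_left hr0
    have hcomm : ∀ i, j ≠ i → ∀ x, f (σ (t i) x) = σ (t i) (f x) ∧ f (σ (w i) x) = σ (w i) (f x) := by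
      intro i hi x
      have key : ∀ g, Commute (t j) g → f (σ g x) = σ g (f x) := by
        intro g hg
        simp only [hf, sqSub, LinearMap.sub_apply, Module.End.one_apply, map_sub]
        rw [← Module.End.mul_apply, ← Module.End.mul_apply, ← map_mul, ← map_mul, (hg.mul_left hg).eq]
      exact ⟨key _ (hc j i hi).1, key _ (hc j i hi).2⟩
    have hKinv : ∀ i ∈ R ∪ S, j ≠ i → InvPair σ t w K1 i := by
      intro i hi hne'
      obtain ⟨a, b⟩ := hinv i hi
      refine ⟨fun x hx => ⟨a x hx.1, ?_⟩, fun x hx => ⟨b x hx.1, ?_⟩⟩ <;>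
        show f _ = 0
      · rw [(hcomm i hne' x).1, show f x = 0 from hx.2, map_zero]
      · rw [(hcomm i hne' x).2, show f x = 0 from hx.2, map_zero]
    have hUinv : ∀ i ∈ R ∪ S, InvPair σ t w U i := by
      intro i hi
      obtain ⟨a, b⟩ := hinv i hi
      rcases eq_or_ne j i with rfl | hne'
      · constructor
        · rintro _ ⟨x, hx, rfl⟩
          refine ⟨σ (t j) x, a x hx, ?_⟩
          simp only [hf, sqSub, LinearMap.sub_apply, Module.End.one_apply, map_sub]
          rw [← Module.End.mul_apply, ← Module.End.mul_apply, ← map_mul, ← map_mul, mul_assoc]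
        · rintro _ ⟨x, hx, rfl⟩
          have hti : ∀ y ∈ P, σ (t j)⁻¹ y ∈ P := inv_mem_of_pow (hr j) hrN hjP.1
          have e : w j * (t j * t j) = (t j)⁻¹ * ((t j)⁻¹ * w j) := by
            rw [← mul_assoc, hflip j, mul_assoc, hflip j]
          refine ⟨-σ ((t j)⁻¹ * (t j)⁻¹ * w j) x, P.neg_mem ?_, ?_⟩
          · rw [map_mul, map_mul, Module.End.mul_apply, Module.End.mul_apply]
            exact hti _ (hti _ (b x hx))
          · simp only [hf, sqSub, LinearMap.sub_apply, Module.End.one_apply, map_sub, map_neg]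
            rw [← Module.End.mul_apply, ← Module.End.mul_apply, ← map_mul, ← map_mul, e]
            have e2 : t j * t j * ((t j)⁻¹ * (t j)⁻¹ * w j) = w j := by group
            rw [e2, ← mul_assoc]
            abel
      · constructor
        · rintro _ ⟨x, hx, rfl⟩
          exact ⟨σ (t i) x, a x hx, (hcomm i hne' x).1⟩
        · rintro _ ⟨x, hx, rfl⟩
          exact ⟨σ (w i) x, b x hx, (hcomm i hne' x).2⟩
    have hdim : finrank K K1 + finrank K U = finrank K P := by
      have h := (f.domRestrict P).finrank_range_add_finrank_ker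
      have e1 : LinearMap.range (f.domRestrict P) = U := LinearMap.range_domRestrict P f
      have e2 : (LinearMap.ker (f.domRestrict P)).map P.subtype = K1 := by
        rw [LinearMap.ker_domRestrict, Submodule.map_comap_subtype]
      rw [e1, ← Submodule.finrank_map_subtype_eq P (LinearMap.ker _), e2] at h
      omega
    have hsplit : ∀ i, j ≠ i → ∀ x ∈ P, sqSub σ t i x ≠ 0 →
        (∃ y ∈ U, sqSub σ t i y ≠ 0) ∨ (∃ y ∈ K1, sqSub σ t i y ≠ 0) := by
      intro i _ x hx hne'
      by_contra hcon
      push_neg at hcon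
      obtain ⟨hU, hK⟩ := hcon
      have hsup : P ≤ K1 ⊔ U := by
        have hle : K1 ⊔ U ≤ P := sup_le inf_le_left hUP
        have hd : Disjoint K1 U := by
          rw [Submodule.disjoint_def]
          rintro _ hk ⟨y, hy, rfl⟩
          exact hss y hy hk.2
        refine (Submodule.eq_of_le_of_finrank_le hle ?_).ge
        rw [← hdim, ← Submodule.finrank_sup_add_finrank_inf_eq, hd.eq_bot, finrank_bot, add_zero]
      obtain ⟨a, ha, b, hb, rfl⟩ := Submodule.mem_sup.1 (hsup hx)
      exact hne' (by rw [map_add, hK a ha, hU b hb, add_zero])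
    classical
    let SU := (S.erase j).filter (fun i => ∃ y ∈ U, sqSub σ t i y ≠ 0)
    let SK := (S.erase j).filter (fun i => ¬ ∃ y ∈ U, sqSub σ t i y ≠ 0)
    have hcard : SU.card + SK.card + 1 = S.card := by
      rw [Finset.card_filter_add_card_filter_not, Finset.card_erase_add_one hj]
    have hlt : ∀ T : Finset ι, T ⊆ S.erase j → T ⊂ S := fun T hT =>
      lt_of_le_of_lt hT (Finset.erase_ssubset hj)
    have hUne : U ≠ ⊥ := by
      obtain ⟨x, hx, hfx⟩ := hS j hj
      exact fun h => hfx ((Submodule.mem_bot K).1 (h ▸ (Submodule.mem_map_of_mem hx : f x ∈ U)))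
    have h1 : 2 * ((insert j R).card + SU.card) ≤ finrank K U := by
      refine ih SU (hlt _ (Finset.filter_subset _ _)) (insert j R) U ?_ (Or.inr hUne) ?_ ?_
        (fun i hi => (Finset.mem_filter.1 hi).2)
      · rw [Finset.disjoint_left]
        intro i hi hi'
        have hi'' := Finset.mem_erase.1 (Finset.mem_filter.1 hi').1
        rcases Finset.mem_insert.1 hi with rfl | h
        · exact hi''.1 rfl
        · exact Finset.disjoint_left.1 hdis h hi''.2
      · intro i hi
        refine hUinv i ?_
        rw [Finset.mem_union] at hi ⊢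
        rcases hi with h | h
        · rcases Finset.mem_insert.1 h with rfl | h'
          · exact Or.inr hj
          · exact Or.inl h'
        · exact Or.inr (Finset.mem_erase.1 (Finset.mem_filter.1 h).1).2
      · intro i hi y hy hy0
        rcases Finset.mem_insert.1 hi with rfl | h
        · obtain ⟨x, hx, rfl⟩ := hy
          exact hss x hx hy0
        · exact hR i h y (hUP hy) hy0
    rw [Finset.card_insert_of_notMem hjR] at h1
    have h2 : 2 * SK.card ≤ finrank K K1 := by
      rcases SK.eq_empty_or_nonempty with h | h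
      · simp [h]
      have := ih SK (hlt _ (Finset.filter_subset _ _)) R K1 ?_ (Or.inl h) ?_
        (fun i hi y hy => hR i hi y hy.1) ?_
      · omega
      · exact hdis.mono_right ((Finset.filter_subset _ _).trans (Finset.erase_subset _ _))
      · intro i hi
        rcases Finset.mem_union.1 hi with h' | h'
        · exact hKinv i (Finset.mem_union_left _ h') (fun e => hjR (e ▸ h'))
        · have := Finset.mem_erase.1 (Finset.mem_filter.1 h').1
          exact hKinv i (Finset.mem_union_right _ this.2) (Ne.symm this.1)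
      · intro i hi
        obtain ⟨hi1, hi2⟩ := Finset.mem_filter.1 hi
        obtain ⟨x, hx, hne'⟩ := hS i (Finset.mem_erase.1 hi1).2
        exact (hsplit i (Ne.symm (Finset.mem_erase.1 hi1).1) x hx hne').resolve_left hi2
    omega

end Cfsg.Agent.MinRepSp
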