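import Mathlib
import Cfsg.Agent.MinRep.SpTorus

/-!
A faithful representation of `Sp(2n, F)` over `F` has degree at least `2n`.
-/

set_option autoImplicit false

open Matrix Module
open scoped MatrixGroups

namespace Cfsg.Agent.MinRepSp

variable {F : Type*} [Field F]

/-- The block diagonal copy of `SL(2)^n` in the symplectic group. -/
def sl2Emb (n : ℕ) : (Fin n → SL(2, F)) →* Matrix.symplecticGroup (Fin n) F where
  toFun A := ⟨fromBlocks (diagonal fun i => A i 0 0) (diagonal fun i => A i 0 1)
      (diagonal fun i => A i 1 0) (diagonal fun i => A i 1 1), by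
    have h : ∀ i, A i 0 0 * A i 1 1 - A i 0 1 * A i 1 0 = 1 := fun i => by
      rw [← Matrix.det_fin_two]; exact (A i).2
    rw [SymplecticGroup.mem_iff, Matrix.J, fromBlocks_multiply, fromBlocks_transpose,
      fromBlocks_multiply, fromBlocks_inj]
    simp only [Matrix.mul_zero, Matrix.mul_neg, Matrix.mul_one, zero_add, add_zero,
      diagonal_transpose, Matrix.neg_mul, diagonal_mul_diagonal, diagonal_neg, diagonal_add]
    refine ⟨?_, ?_, ?_, ?_⟩ <;> ext a b <;> rcases eq_or_ne a b with rfl | hab <;>
      simp [*] <;> first | linear_combination (h a) | linear_combination -(h a) | ring⟩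
  map_one' := Subtype.ext (by simp)
  map_mul' A B := Subtype.ext (by
    simp [fromBlocks_multiply, diagonal_mul_diagonal, diagonal_add, Matrix.mul_apply,
      Fin.sum_univ_two])

theorem sl2Emb_injective (n : ℕ) : Function.Injective (sl2Emb (F := F) n) := by
  intro A B h
  have h' := fromBlocks_inj.1 (congrArg Subtype.val h)
  simp only [diagonal_eq_diagonal_iff] at h'
  funext i
  ext a b
  fin_cases a <;> fin_cases b
  · exact h'.1 i
  · exact h'.2.1 i
  · exact h'.2.2.1 i
  · exact h'.2.2.2 i

/-- Three facts about `SL(2, F)`: there is a semisimple element, not an involution, which is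
conjugate to its inverse. -/
theorem exists_inverted_pair [Fintype F] :
    ∃ (t w : SL(2, F)) (r : ℕ), t ^ r = 1 ∧ (r : F) ≠ 0 ∧ t * t ≠ 1 ∧ w * t = t⁻¹ * w := by
  classical
  by_cases hq : ∃ a : Fˣ, a * a ≠ 1
  · obtain ⟨a, ha⟩ := hq
    let t : SL(2, F) := ⟨!![(a : F), 0; 0, (↑a⁻¹ : F)], by simp [Matrix.det_fin_two]⟩
    let w : SL(2, F) := ⟨!![0, 1; -1, 0], by simp [Matrix.det_fin_two]⟩
    refine ⟨t, w, Fintype.card F - 1, ?_, ?_, ?_, ?_⟩
    · have hk : ∀ k : ℕ, (↑(t ^ k) : Matrix (Fin 2) (Fin 2) F) =
          !![(↑(a ^ k) : F), 0; 0, (↑(a⁻¹ ^ k) : F)] := by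
        intro k
        induction k with
        | zero => simp [Matrix.one_fin_two]
        | succ k ih =>
          rw [pow_succ, Matrix.SpecialLinearGroup.coe_mul, ih]
          simp [t, Matrix.mul_fin_two, pow_succ]
      apply Subtype.ext
      rw [hk]
      simp [Units.val_pow_eq_pow_val, FiniteField.pow_card_sub_one_eq_one, Matrix.one_fin_two]
    · rw [Nat.cast_sub Fintype.card_pos, FiniteField.cast_card_eq_zero]
      simp
    · intro h
      have h0 := congrArg (fun g : SL(2, F) => g 0 0) h
      simp only [Matrix.SpecialLinearGroup.coe_mul, Matrix.SpecialLinearGroup.coe_inv, Matrix.SpecialLinearGroup.coe_pow, Matrix.SpecialLinearGroup.coe_one] at h0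
      simp [t, Matrix.mul_apply, Fin.sum_univ_two] at h0
      exact ha (Units.ext (by simpa using h0))
    · apply Subtype.ext
      simp only [Matrix.SpecialLinearGroup.coe_mul, Matrix.SpecialLinearGroup.coe_inv, Matrix.SpecialLinearGroup.coe_pow, Matrix.SpecialLinearGroup.coe_one]
      simp [t, w, Matrix.adjugate_fin_two, Matrix.mul_fin_two]
  · push Not at hq
    have hle : Fintype.card F ≤ 3 := by
      by_contra hgt
      have hsub : (Finset.univ : Finset F) ⊆ {0, 1, -1} := by
        intro x _
        rcases eq_or_ne x 0 with rfl | hx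
        · simp
        · have := congrArg Units.val (hq (Units.mk0 x hx))
          simp only [Units.val_mul, Units.val_mk0, Units.val_one] at this
          rcases mul_self_eq_one_iff.1 this with rfl | rfl <;> simp
      have := (Finset.card_le_card hsub).trans Finset.card_le_three
      rw [Finset.card_univ] at this
      omega
    have h1 : 1 < Fintype.card F := Fintype.one_lt_card
    have h0 : ((Fintype.card F : ℕ) : F) = 0 := FiniteField.cast_card_eq_zero F
    rcases (show Fintype.card F = 2 ∨ Fintype.card F = 3 by omega) with hc | hc <;>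
      rw [hc] at h0
    · have h2 : (2 : F) = 0 := by exact_mod_cast h0
      let t : SL(2, F) := ⟨!![0, -1; 1, -1], by simp [Matrix.det_fin_two]⟩
      let w : SL(2, F) := ⟨!![0, 1; 1, 0], by simp [Matrix.det_fin_two]; linear_combination -h2⟩
      refine ⟨t, w, 3, ?_, ?_, ?_, ?_⟩
      · apply Subtype.ext
        simp only [Matrix.SpecialLinearGroup.coe_mul, Matrix.SpecialLinearGroup.coe_inv, Matrix.SpecialLinearGroup.coe_pow, Matrix.SpecialLinearGroup.coe_one]
        simp [t, pow_succ, Matrix.mul_fin_two, Matrix.one_fin_two]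
      · intro h
        push_cast at h
        exact one_ne_zero (α := F) (by linear_combination h - h2)
      · intro h
        have := congrArg (fun g : SL(2, F) => g 0 1) h
        simp only [Matrix.SpecialLinearGroup.coe_mul, Matrix.SpecialLinearGroup.coe_inv, Matrix.SpecialLinearGroup.coe_pow, Matrix.SpecialLinearGroup.coe_one] at this
        simp [t, Matrix.mul_apply, Fin.sum_univ_two] at this
      · apply Subtype.ext
        simp only [Matrix.SpecialLinearGroup.coe_mul, Matrix.SpecialLinearGroup.coe_inv, Matrix.SpecialLinearGroup.coe_pow, Matrix.SpecialLinearGroup.coe_one]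
        simp [t, w, Matrix.adjugate_fin_two, Matrix.mul_fin_two]
    · have h3 : (3 : F) = 0 := by exact_mod_cast h0
      let t : SL(2, F) := ⟨!![0, -1; 1, 0], by simp [Matrix.det_fin_two]⟩
      let w : SL(2, F) := ⟨!![1, 1; 1, -1], by simp [Matrix.det_fin_two]; linear_combination -h3⟩
      refine ⟨t, w, 4, ?_, ?_, ?_, ?_⟩
      · apply Subtype.ext
        simp only [Matrix.SpecialLinearGroup.coe_mul, Matrix.SpecialLinearGroup.coe_inv, Matrix.SpecialLinearGroup.coe_pow, Matrix.SpecialLinearGroup.coe_one]
        simp [t, pow_succ, Matrix.mul_fin_two, Matrix.one_fin_two]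
      · intro h
        push_cast at h
        exact one_ne_zero (α := F) (by linear_combination h - h3)
      · intro h
        have := congrArg (fun g : SL(2, F) => g 0 0) h
        simp only [Matrix.SpecialLinearGroup.coe_mul, Matrix.SpecialLinearGroup.coe_inv, Matrix.SpecialLinearGroup.coe_pow, Matrix.SpecialLinearGroup.coe_one] at this
        simp [t, Matrix.mul_apply, Fin.sum_univ_two] at this
        exact one_ne_zero (α := F) (by linear_combination h3 + this)
      · apply Subtype.ext
        simp only [Matrix.SpecialLinearGroup.coe_mul, Matrix.SpecialLinearGroup.coe_inv, Matrix.SpecialLinearGroup.coe_pow, Matrix.SpecialLinearGroup.coe_one]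
        simp [t, w, Matrix.adjugate_fin_two, Matrix.mul_fin_two]

theorem two_mul_le_degree [Fintype F] (n : ℕ) {d : ℕ}
    (ρ : ↥(Matrix.symplecticGroup (Fin n) F) →* GL (Fin d) F) (hρ : Function.Injective ρ) :
    2 * n ≤ d := by
  classical
  rcases Nat.eq_zero_or_pos n with rfl | hn
  · simp
  obtain ⟨t₀, w₀, r, hr, hr0, ht, hflip⟩ := exists_inverted_pair (F := F)
  let K := AlgebraicClosure F
  let g : (Fin n → SL(2, F)) →* Module.End K (Fin d → K) :=
    ((Matrix.toLinAlgEquiv' (R := K) (n := Fin d)).toAlgHom.toMonoidHom).comp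
      (((algebraMap F K).mapMatrix.toMonoidHom).comp
        ((Units.coeHom _).comp (ρ.comp (sl2Emb n))))
  have hg : Function.Injective g :=
    Matrix.toLinAlgEquiv'.injective.comp ((Matrix.map_injective (algebraMap F K).injective).comp
      (Units.val_injective.comp (hρ.comp (sl2Emb_injective n))))
  have hm := two_mul_card_le_finrank (σ := g) (t := fun i => Pi.mulSingle i t₀)
    (w := fun i => Pi.mulSingle i w₀) (r := r)
    (fun j => by rw [← Pi.mulSingle_pow, hr, Pi.mulSingle_one])
    (by rw [← map_natCast (algebraMap F K), Ne, FaithfulSMul.algebraMap_eq_zero_iff]; exact hr0)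
    (fun j => by rw [← Pi.mulSingle_mul, hflip, Pi.mulSingle_mul, Pi.mulSingle_inv])
    (fun i j hij => ⟨Pi.mulSingle_commute hij _ _, Pi.mulSingle_commute hij _ _⟩)
    Finset.univ ∅ ⊤ (Finset.disjoint_empty_left _) (Or.inl ⟨⟨0, hn⟩, Finset.mem_univ _⟩)
    (fun j _ => ⟨fun _ _ => trivial, fun _ _ => trivial⟩)
    (fun j hj => absurd hj (Finset.notMem_empty j))
    (fun j _ => by
      by_contra h
      push Not at h
      have h1 : sqSub g (fun i => Pi.mulSingle i t₀) j = 0 := LinearMap.ext fun x => h x trivial
      rw [sqSub, sub_eq_zero, ← Pi.mulSingle_mul, ← map_one g] at h1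
      exact ht (by simpa using congrFun (hg h1) j))
  simpa using hm

end Cfsg.Agent.MinRepSp
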